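import Groth.Agent.S2474
import Mathlib.RingTheory.Valuation.LocalSubring
import Mathlib.RingTheory.Polynomial.ScaleRoots
import Mathlib.RingTheory.IntegralClosure.IsIntegralClosure.Basic
import Mathlib.RingTheory.Ideal.GoingUp

/-!
# Counting the branches of a radicial endomorphism at a fixed point
-/

set_option autoImplicit false
set_option linter.style.haveILetI false
set_option linter.unusedSectionVars false

universe u

open IsLocalRing Polynomial

namespace Groth.Agent.H06Endo

/-- A root of a monic polynomial whose coefficients become integral after multiplication by `T`. -/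
theorem isIntegral_mul_of_root {P K : Type*} [CommRing P] [CommRing K] [Algebra P K] (x T : K) (p : K[X])
    (hp : p.Monic) (hx : p.eval x = 0) (hT : IsIntegral P T) (hc : ∀ i, IsIntegral P (p.coeff i * T)) :
    IsIntegral P (x * T) := by
  rcases Nat.eq_zero_or_pos p.natDegree with h0 | h0
  · have hp1 : p = 1 := hp.natDegree_eq_zero.1 h0
    rw [hp1, Polynomial.eval_one] at hx
    haveI : Subsingleton K := subsingleton_of_zero_eq_one hx.symm
    rw [Subsingleton.elim (x * T) 0]
    exact isIntegral_zero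
  refine IsIntegral.of_aeval_monic_of_isIntegral_coeff (p := p.scaleRoots T) ((monic_scaleRoots_iff T).2 hp)
    (by rw [natDegree_scaleRoots]; exact h0.ne') ?_ fun i => ?_
  · rw [mul_comm x T, scaleRoots_eval_mul, hx, mul_zero]
    exact isIntegral_zero
  · rw [coeff_scaleRoots]
    rcases Nat.eq_zero_or_pos (p.natDegree - i) with hi | hi
    · rcases (Nat.le_of_sub_eq_zero hi).lt_or_eq with h | h
      · rw [coeff_eq_zero_of_natDegree_lt h, zero_mul]; exact isIntegral_zero
      · rw [hi, pow_zero, mul_one, ← h, hp.coeff_natDegree]; exact isIntegral_one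
    · obtain ⟨m, hm⟩ := Nat.exists_eq_add_of_le hi
      rw [hm, Nat.succ_eq_add_one, zero_add, add_comm, pow_succ', ← mul_assoc]
      exact (hc i).mul (hT.pow _)

/-- Integral closures of local rings in their fields of fractions are semi-local. -/
theorem finite_maximal (O K : Type u) [CommRing O] [IsLocalRing O] [IsNoetherianRing O] [Field K] [Algebra O K]
    (hfr : ∀ x : K, ∃ a b : O, algebraMap O K b ≠ 0 ∧ x = algebraMap O K a / algebraMap O K b) :
    Finite {m : Ideal (integralClosure O K) // m.IsMaximal} := by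
  let A := (algebraMap O K).range
  let r : O →+* A := (algebraMap O K).rangeRestrict
  have hr : Function.Surjective r := (algebraMap O K).rangeRestrict_surjective
  haveI : IsLocalRing A := IsLocalRing.of_surjective' r hr
  haveI : IsNoetherianRing A := isNoetherianRing_of_surjective O A r hr
  haveI : IsFractionRing A K := by
    refine IsFractionRing.of_field A K fun z => ?_
    obtain ⟨a, b, -, rfl⟩ := hfr z
    exact ⟨r a, r b, rfl⟩
  letI : Algebra (FractionRing A) K := FractionRing.liftAlgebra A K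
  haveI : IsScalarTower A (FractionRing A) K := FractionRing.isScalarTower_liftAlgebra A K
  haveI : FiniteDimensional (FractionRing A) K := by
    refine Module.Finite.of_surjective (Algebra.linearMap (FractionRing A) K) fun z => ?_
    obtain ⟨a, b, -, rfl⟩ := hfr z
    refine ⟨algebraMap A _ (r a) / algebraMap A _ (r b), ?_⟩
    rw [Algebra.linearMap_apply, map_div₀, ← IsScalarTower.algebraMap_apply, ← IsScalarTower.algebraMap_apply]
    rfl
  have hfin := (Groth.Agent.S2474.result (A := A) (K' := K)).1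
  letI : Algebra O A := r.toAlgebra
  haveI : IsScalarTower O A K := IsScalarTower.of_algebraMap_eq fun _ => rfl
  haveI : Algebra.IsIntegral O A := ⟨fun a => by
    obtain ⟨b, rfl⟩ := hr a
    exact isIntegral_algebraMap⟩
  have heq : ∀ x : K, IsIntegral O x ↔ IsIntegral A x :=
    fun x => ⟨fun h => h.tower_top, fun h => isIntegral_trans x h⟩
  let e : integralClosure O K ≃+* integralClosure A K :=
    { toFun := fun x => ⟨x.1, (heq x.1).1 x.2⟩
      invFun := fun x => ⟨x.1, (heq x.1).2 x.2⟩
      left_inv := fun _ => rfl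
      right_inv := fun _ => rfl
      map_mul' := fun _ _ => rfl
      map_add' := fun _ _ => rfl }
  haveI := hfin.to_subtype
  let F : {m : Ideal (integralClosure O K) // m.IsMaximal} →
      {m : Ideal (integralClosure A K) | m.IsMaximal} :=
    fun m => ⟨Ideal.comap e.symm m.1, haveI := m.2; Ideal.comap_isMaximal_of_surjective e.symm e.symm.surjective⟩
  refine Finite.of_injective F fun m m' h => Subtype.ext ?_
  exact Ideal.comap_injective_of_surjective e.symm e.symm.surjective (congrArg Subtype.val h)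

variable {ι : Type u} [Finite ι] (π : ι → ι) (hπ : Function.Injective π)
  (K : ι → Type u) [∀ i, Field (K i)] {O : Type u} [CommRing O] [IsLocalRing O] [IsNoetherianRing O]
  [∀ i, Algebra O (K i)]
  (hfr : ∀ i, ∀ x : K i, ∃ a b : O, algebraMap O (K i) b ≠ 0 ∧ x = algebraMap O (K i) a / algebraMap O (K i) b)
  (φ : O →+* O) [IsLocalHom φ] (τ : ∀ i, K (π i) →+* K i)
  (hτ : ∀ i a, τ i (algebraMap O (K (π i)) a) = algebraMap O (K i) (φ a))
  (hins : ∀ i, ∀ x : K i, ∃ n : ℕ, 0 < n ∧ x ^ n ∈ (τ i).range)
  {B : Type u} [CommRing B] (g : B →+* O) (hint : ∀ β, φ.IsIntegralElem (g β))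
  (hloc : ∀ a : O, ∃ β s, IsUnit (g s) ∧ a * g s = g β)

local notation "E" i:max => integralClosure O (K i)

include hτ in
theorem isIntegral_tau (i : ι) {x : K (π i)} (hx : IsIntegral O x) : IsIntegral O (τ i x) :=
  IsIntegral.map_of_comp_eq φ (τ i) (RingHom.ext fun a => (hτ i a).symm) hx

include hτ in
/-- Integrality over the image of `φ` is reflected by `τ`. -/
theorem isIntegral_of_tau (i : ι) {y : K (π i)}
    (hy : ((algebraMap O (K i)).comp φ).IsIntegralElem (τ i y)) : IsIntegral O y := by
  obtain ⟨p, hp, h⟩ := hy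
  refine ⟨p, hp, (τ i).injective ?_⟩
  rw [map_zero, Polynomial.hom_eval₂, ← h]
  congr 1
  exact RingHom.ext fun a => hτ i a

include hint in
theorem isIntegralElem_image (i : ι) (β : B) :
    ((algebraMap O (K i)).comp φ).IsIntegralElem (algebraMap O (K i) (g β)) := by
  obtain ⟨p, hp, h⟩ := hint β
  exact ⟨p, hp, by rw [← Polynomial.hom_eval₂, h, map_zero]⟩

include hloc in
/-- Common denominators. -/
theorem exists_denominator (s : Finset ℕ) (a : ℕ → O) : ∃ t, IsUnit (g t) ∧ ∀ n ∈ s, ∃ β, a n * g t = g β := by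
  classical
  induction s using Finset.induction with
  | empty => exact ⟨1, by rw [map_one]; exact isUnit_one, by simp⟩
  | insert m s _ ih =>
    obtain ⟨t, ht, h⟩ := ih
    obtain ⟨β, t', ht', hβ⟩ := hloc (a m)
    refine ⟨t * t', by rw [map_mul]; exact ht.mul ht', fun n hn => ?_⟩
    rcases Finset.mem_insert.1 hn with rfl | hn
    · exact ⟨β * t, by rw [map_mul, map_mul, ← hβ]; ring⟩
    · obtain ⟨γ, hγ⟩ := h n hn
      exact ⟨γ * t', by rw [map_mul, map_mul, ← hγ]; ring⟩

include hint hloc in
/-- An integral element becomes integral over the image of `φ` after multiplication by a unit. -/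
theorem exists_unit_mul (i : ι) {x : K i} (hx : IsIntegral O x) :
    ∃ t : B, IsUnit (g t) ∧ ((algebraMap O (K i)).comp φ).IsIntegralElem (x * algebraMap O (K i) (g t)) := by
  obtain ⟨p, hp, he⟩ := hx
  obtain ⟨t, ht, hb⟩ := exists_denominator g hloc p.support p.coeff
  refine ⟨t, ht, ?_⟩
  have hN := isIntegralElem_image K φ g hint i
  let f := algebraMap O (K i)
  letI : Algebra O (K i) := (f.comp φ).toAlgebra
  show IsIntegral O (x * f (g t))
  refine isIntegral_mul_of_root x _ (p.map f) (hp.map f) ?_ (hN t) fun n => ?_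
  · rw [Polynomial.eval_map]; exact he
  · rw [Polynomial.coeff_map, ← map_mul]
    by_cases hn : n ∈ p.support
    · obtain ⟨β, hβ⟩ := hb n hn
      rw [hβ]; exact hN β
    · rw [Polynomial.notMem_support_iff.1 hn, zero_mul, map_zero]; exact isIntegral_zero

/-- The induced map on the normalisations of the branches. -/
noncomputable def psi (i : ι) : E (π i) →+* E i where
  toFun x := ⟨τ i x.1, isIntegral_tau π K φ τ hτ i x.2⟩
  map_one' := Subtype.ext (map_one _)
  map_mul' a b := Subtype.ext (map_mul _ _ _)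
  map_zero' := Subtype.ext (map_zero _)
  map_add' a b := Subtype.ext (map_add _ _ _)

theorem isMaximal_of_local (i : ι) (P : Ideal (E i)) [P.IsPrime]
    (h : ∀ a ∈ maximalIdeal O, algebraMap O (E i) a ∈ P) : P.IsMaximal := by
  refine Ideal.isMaximal_of_isIntegral_of_isMaximal_comap (R := O) P ?_
  convert maximalIdeal.isMaximal O
  exact le_antisymm (IsLocalRing.le_maximalIdeal (Ideal.IsPrime.ne_top inferInstance)) h

theorem mem_maximal_iff (i : ι) (m : Ideal (E i)) [m.IsMaximal] (a : O) :
    algebraMap O (E i) a ∈ m ↔ a ∈ maximalIdeal O := by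
  rw [← IsLocalRing.eq_maximalIdeal (Ideal.isMaximal_comap_of_isIntegral_of_isMaximal (R := O) m)]
  rfl

theorem psi_algebraMap (i : ι) (a : O) :
    psi π K φ τ hτ i (algebraMap O _ a) = algebraMap O (E i) (φ a) := Subtype.ext (hτ i a)

/-- The map on branch points. -/
noncomputable def branchMap : (Σ i, {m : Ideal (E i) // m.IsMaximal}) → Σ i, {m : Ideal (E i) // m.IsMaximal} :=
  fun p => ⟨π p.1, p.2.1.comap (psi π K φ τ hτ p.1), by
    haveI := p.2.2
    refine isMaximal_of_local K (π p.1) _ fun a ha => ?_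
    rw [Ideal.mem_comap, psi_algebraMap, mem_maximal_iff K p.1 p.2.1]
    exact map_nonunit φ a ha⟩

include hins hint hloc hπ in
theorem branchMap_injective : Function.Injective (branchMap π K φ τ hτ) := by
  rintro ⟨i, m₁, hm₁⟩ ⟨j, m₂, hm₂⟩ h
  obtain rfl : i = j := hπ (congrArg Sigma.fst h)
  have h' : m₁.comap (psi π K φ τ hτ i) = m₂.comap (psi π K φ τ hτ i) := by
    have := eq_of_heq (Sigma.mk.inj h).2
    exact congrArg Subtype.val this
  congr 1
  refine Subtype.ext ?_
  show m₁ = m₂
  ext x
  obtain ⟨t, ht, hxt⟩ := exists_unit_mul K φ g hint hloc i x.2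
  have hu : IsUnit (algebraMap O (E i) (g t)) := ht.map _
  obtain ⟨n, hn, y, hy⟩ := hins i (x.1 * algebraMap O (K i) (g t))
  have hy' : IsIntegral O y := by
    refine isIntegral_of_tau π K φ τ hτ i ?_
    rw [hy]
    let f := algebraMap O (K i)
    letI : Algebra O (K i) := (f.comp φ).toAlgebra
    exact IsIntegral.pow hxt n
  have key : ∀ m : Ideal (E i), m.IsMaximal → (x ∈ m ↔ (⟨y, hy'⟩ : E (π i)) ∈ m.comap (psi π K φ τ hτ i)) := by
    intro m hm
    haveI := hm
    rw [Ideal.mem_comap, show psi π K φ τ hτ i ⟨y, hy'⟩ = (x * algebraMap O (E i) (g t)) ^ n from Subtype.ext hy,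
      hm.isPrime.pow_mem_iff_mem n hn, Ideal.mul_unit_mem_iff_mem _ hu]
  rw [key m₁ hm₁, key m₂ hm₂, h']

include hτ hfr hπ hins hint hloc in
theorem branchMap_bijective : Function.Bijective (branchMap π K φ τ hτ) := by
  haveI : ∀ i, Finite {m : Ideal (E i) // m.IsMaximal} := fun i => finite_maximal O (K i) (hfr i)
  exact ⟨branchMap_injective π hπ K φ τ hτ hins g hint hloc,
    (Finite.injective_iff_surjective).1 (branchMap_injective π hπ K φ τ hτ hins g hint hloc)⟩

include hτ hfr hπ hins hint hloc in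
/-- Every centre over the fixed point is the fixed point. -/
theorem main (i : ι) {D : Type u} [CommRing D] [IsLocalRing D] (h : D →+* K i) (k : B →+* D)
    (hk : ∀ β, h (k β) = algebraMap O (K i) (g β)) (l : O →+* D) [IsLocalHom l]
    (hl : ∀ a, h (l a) = algebraMap O (K i) (φ a)) (β : B) : IsUnit (k β) ↔ IsUnit (g β) := by
  obtain ⟨V, hle, hlocal⟩ := (LocalSubring.range h).exists_le_valuationSubring
  have hmemV : ∀ d, h d ∈ V := fun d => hle ⟨d, rfl⟩
  have hunit : ∀ d : D, IsUnit (⟨h d, hmemV d⟩ : V) ↔ IsUnit d := by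
    intro d
    let hV : D →+* V := h.codRestrict V.toSubring hmemV
    haveI : IsLocalHom hV := ⟨fun d hd => by
      have h1 : IsUnit (h.rangeRestrict d) := hlocal.map_nonunit (h.rangeRestrict d) hd
      haveI : IsLocalHom h.rangeRestrict := .of_surjective _ h.rangeRestrict_surjective
      exact isUnit_of_map_unit h.rangeRestrict d h1⟩
    exact ⟨fun hd => isUnit_of_map_unit hV d hd, fun hd => hd.map hV⟩
  have hmem : ∀ y : E (π i), τ i y.1 ∈ V := by
    intro y
    obtain ⟨p, hp, he⟩ := y.2
    let fV : O →+* V := ((h.comp l).codRestrict V.toSubring fun a => hmemV (l a))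
    have hz : IsIntegral V (τ i y.1) := by
      refine ⟨p.map fV, hp.map fV, ?_⟩
      rw [Polynomial.eval₂_map]
      have : (algebraMap V (K i)).comp fV = (τ i).comp (algebraMap O (K (π i))) :=
        RingHom.ext fun a => (hl a).trans (hτ i a).symm
      rw [this, ← Polynomial.hom_eval₂, he, map_zero]
    obtain ⟨z, hz'⟩ := IsIntegrallyClosed.algebraMap_eq_of_integral hz
    exact hz' ▸ z.2
  let cV : E (π i) →+* V :=
    { toFun := fun y => ⟨τ i y.1, hmem y⟩
      map_one' := Subtype.ext (map_one _)
      map_mul' := fun a b => Subtype.ext (map_mul _ _ _)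
      map_zero' := Subtype.ext (map_zero _)
      map_add' := fun a b => Subtype.ext (map_add _ _ _) }
  haveI hPm : ((maximalIdeal V).comap cV).IsMaximal := by
    refine isMaximal_of_local K (π i) _ fun a ha => ?_
    rw [Ideal.mem_comap]
    show ¬ IsUnit (⟨τ i (algebraMap O (K (π i)) a), _⟩ : V)
    intro hu
    refine ha (isUnit_of_map_unit l a ((hunit (l a)).1 ?_))
    convert hu using 1
    exact Subtype.ext ((hl a).trans (hτ i a).symm)
  obtain ⟨⟨j, m, hm⟩, hjm⟩ := (branchMap_bijective π hπ K hfr φ τ hτ hins g hint hloc).2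
    ⟨π i, (maximalIdeal V).comap cV, hPm⟩
  obtain rfl : j = i := hπ (congrArg Sigma.fst hjm)
  have hPeq : m.comap (psi π K φ τ hτ j) = (maximalIdeal V).comap cV :=
    congrArg Subtype.val (eq_of_heq (Sigma.mk.inj hjm).2)
  obtain ⟨n, hn, y, hy⟩ := hins j (algebraMap O (K j) (g β))
  have hy' : IsIntegral O y := by
    refine isIntegral_of_tau π K φ τ hτ j ?_
    rw [hy]
    obtain ⟨p, hp, he⟩ := hint β
    have h1 : φ.IsIntegralElem (g β ^ n) := by
      letI := φ.toAlgebra
      exact IsIntegral.pow (⟨p, hp, he⟩ : IsIntegral O (g β)) n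
    obtain ⟨q, hq, hqe⟩ := h1
    exact ⟨q, hq, by rw [← map_pow, ← Polynomial.hom_eval₂, hqe, map_zero]⟩
  haveI := hm
  have e1 : (⟨y, hy'⟩ : E (π j)) ∈ (maximalIdeal V).comap cV ↔ ¬ IsUnit (k β) := by
    rw [Ideal.mem_comap, mem_maximalIdeal, mem_nonunits_iff, show cV ⟨y, hy'⟩ = (⟨h (k β), hmemV _⟩ : V) ^ n from
      Subtype.ext (show τ j y = h (k β) ^ n from hy.trans (congrArg (· ^ n) (hk β).symm)), isUnit_pow_iff hn.ne', hunit]
  have e2 : (⟨y, hy'⟩ : E (π j)) ∈ m.comap (psi π K φ τ hτ j) ↔ ¬ IsUnit (g β) := by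
    rw [Ideal.mem_comap, show psi π K φ τ hτ j ⟨y, hy'⟩ = algebraMap O (E j) (g β) ^ n from
      Subtype.ext (by rw [SubmonoidClass.coe_pow]; exact hy), hm.isPrime.pow_mem_iff_mem n hn,
      mem_maximal_iff K j m, mem_maximalIdeal, mem_nonunits_iff]
  rw [← not_iff_not, ← e1, ← e2, hPeq]

end Groth.Agent.H06Endo
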