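import Groth.Agent.H06Endo.Local
import Groth.Agent.H8Props.MonoEndo.Noetherian
import Groth.Agent.H18Et.Cons.TorsionSupp
import Mathlib.AlgebraicGeometry.ZariskisMainTheorem
import Mathlib.AlgebraicGeometry.Morphisms.FinitePresentation

/-!
# Radicial endomorphisms of schemes of finite type over the integers are finite and bijective
-/

set_option autoImplicit false
set_option linter.style.haveILetI false
set_option linter.unusedSectionVars false
set_option backward.isDefEq.respectTransparency false

universe u

open CategoryTheory AlgebraicGeometry TopologicalSpace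
open Groth.Agent.H8Props.MonoEndo

namespace Groth.Agent.H06Endo

variable {X : Scheme.{u}}

theorem isSeparated_of_universallyInjective {Y : Scheme.{u}} (f : X ⟶ Y) [UniversallyInjective f] :
    IsSeparated f := by
  haveI : Surjective (Limits.pullback.diagonal f) := (UniversallyInjective.iff_diagonal f).1 inferInstance
  refine (isSeparated_iff f).2 (IsClosedImmersion.of_isPreimmersion _ ?_)
  rw [(Limits.pullback.diagonal f).surjective.range_eq]
  exact isClosed_univ

theorem universallyInjective_iter (g : X ⟶ X) [UniversallyInjective g] : ∀ n, UniversallyInjective (iter g n)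
  | 0 => inferInstanceAs (UniversallyInjective (𝟙 X))
  | n + 1 => MorphismProperty.comp_mem @UniversallyInjective g (iter g n) ‹_› (universallyInjective_iter g n)

/-- A surjective injective endomorphism of a Noetherian space permutes the generic points. -/
theorem genericPoints_perm [IsNoetherian X] (g : X ⟶ X) (hi : Function.Injective g) (hs : Function.Surjective g) :
    (∀ η ∈ genericPoints X, g η ∈ genericPoints X) ∧
      ∀ ξ ∈ genericPoints X, ∃ η ∈ genericPoints X, g η = ξ := by
  have hmax : ∀ {η y : X}, η ∈ genericPoints X → y ⤳ η → y = η := by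
    intro η y hη hy
    have h1 : closure ({η} : Set X) ⊆ closure {y} := closure_minimal (by simpa using hy.mem_closure) isClosed_closure
    have h2 : closure ({y} : Set X) ⊆ closure {η} := hη.2 isIrreducible_singleton.closure h1
    exact (Inseparable.eq (inseparable_iff_closure_eq.2 (h2.antisymm h1)))
  have hcov : ∀ ξ ∈ genericPoints X, ∃ η ∈ genericPoints X, g η = ξ := by
    intro ξ hξ
    obtain ⟨x, rfl⟩ := hs ξ
    let i := genericPoints.ofComponent (α := X) ⟨irreducibleComponent x, irreducibleComponent_mem_irreducibleComponents x⟩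
    have h : i.1 ⤳ x := by
      rw [specializes_iff_mem_closure, genericPoints.isGenericPoint_ofComponent]
      exact mem_irreducibleComponent
    exact ⟨i.1, i.2, hmax hξ (h.map g.continuous)⟩
  haveI : Finite (irreducibleComponents X) :=
    TopologicalSpace.NoetherianSpace.finite_irreducibleComponents.to_subtype
  haveI : Finite (genericPoints X) := Finite.of_injective _ (genericPoints.component_injective (α := X))
  choose F hF hFg using hcov
  let σ : genericPoints X → genericPoints X := fun ξ => ⟨F ξ.1 ξ.2, hF ξ.1 ξ.2⟩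
  have hσ : Function.Injective σ := fun a b h => by
    have h1 : F a.1 a.2 = F b.1 b.2 := congrArg Subtype.val h
    apply Subtype.ext
    rw [← hFg a.1 a.2, ← hFg b.1 b.2, h1]
  refine ⟨fun η hη => ?_, fun ξ hξ => ⟨_, hF ξ hξ, hFg ξ hξ⟩⟩
  obtain ⟨ξ, hξ⟩ := Finite.injective_iff_surjective.1 hσ ⟨η, hη⟩
  rw [show η = F ξ.1 ξ.2 from (congrArg Subtype.val hξ).symm, hFg]
  exact ξ.2

variable (q : X ⟶ Spec (CommRingCat.of (ULift.{u} ℤ))) [LocallyOfFiniteType q] [QuasiCompact q]

include q in
theorem isNoetherian : IsNoetherian X := by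
  haveI : IsNoetherianRing (ULift.{u} ℤ) := isNoetherianRing_of_ringEquiv ℤ ULift.ringEquiv.symm
  haveI : IsLocallyNoetherian X := LocallyOfFiniteType.isLocallyNoetherian q
  haveI : CompactSpace X := QuasiCompact.compactSpace_of_compactSpace q
  exact ⟨⟩

include q in
theorem jacobsonSpace : JacobsonSpace X := by
  haveI : IsJacobsonRing (ULift.{u} ℤ) :=
    (isJacobsonRing_iso ULift.ringEquiv.symm).1 Groth.Agent.S9612.result
  exact LocallyOfFiniteType.jacobsonSpace q

include q in
/-- Every closed point is periodic under an injective endomorphism. -/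
theorem exists_periodic (g : X ⟶ X) (hg : Function.Injective g) {z : X} (hz : IsClosed ({z} : Set X)) :
    ∃ n : ℕ, g^[n + 1] z = z := by
  haveI := isNoetherian q
  haveI := jacobsonSpace q
  haveI := locallyOfFiniteType_endo q g
  haveI := finite_residueField q hz
  let m := Nat.card (X.residueField z)
  let C := {w : X | IsClosed ({w} : Set X) ∧ Finite (X.residueField w) ∧ Nat.card (X.residueField w) ≤ m}
  have hC : C.Finite := by
    refine ((Set.finite_Iic m).biUnion fun i _ => finite_setOf_card (X := X) i).subset ?_
    intro w hw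
    exact Set.mem_biUnion (Set.mem_Iic.2 hw.2.2) ⟨hw.2.1, rfl⟩
  haveI := hC.to_subtype
  have hmap : ∀ w : C, g w.1 ∈ C := fun w => by
    haveI := w.2.2.1
    have hi := (g.residueFieldMap w.1).hom.injective
    exact ⟨g.closePoints_subset_preimage_closedPoints w.2.1, Finite.of_injective _ hi,
      (Nat.card_le_card_of_injective _ hi).trans w.2.2.2⟩
  let G : C → C := fun w => ⟨g w.1, hmap w⟩
  have hGi : Function.Injective G := fun a b h => Subtype.ext (hg (congrArg Subtype.val h))
  obtain ⟨k, hk, hper⟩ := hGi.mem_periodicPts ⟨z, hz, inferInstance, le_rfl⟩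
  obtain ⟨n, rfl⟩ := Nat.exists_eq_add_of_le hk
  refine ⟨n, ?_⟩
  have hiter : ∀ (i : ℕ) (w : C), (G^[i] w).1 = g^[i] w.1 := fun i => by
    induction i with
    | zero => exact fun w => rfl
    | succ i ih => exact fun w => by rw [Function.iterate_succ_apply, Function.iterate_succ_apply, ih]
  have h1 := congrArg Subtype.val hper
  rw [hiter, Nat.succ_eq_add_one, zero_add, add_comm] at h1
  exact h1

include q in
/-- The theorem of Ax and Grothendieck. -/
theorem surjective_of_injective (g : X ⟶ X) (hg : Function.Injective g) : Function.Surjective g := by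
  haveI := isNoetherian q
  haveI := jacobsonSpace q
  haveI := locallyOfFiniteType_endo q g
  haveI : QuasiCompact g := inferInstance
  haveI : LocallyOfFinitePresentation g := H12AlgSp.lfp_of_lft_of_isLocallyNoetherian g
  by_contra hne
  obtain ⟨y, hy⟩ := not_forall.1 hne
  let T : Set X := Set.range g
  have hT : Topology.IsConstructible T := by
    have h1 := g.isConstructible_image (s := Set.univ) Topology.IsConstructible.univ
    rwa [Set.image_univ] at h1
  have hcl : Topology.IsConstructible (closure ({y} : Set X) ∩ T) := by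
    refine Topology.IsConstructible.inter (Topology.isConstructible_compl.1 ?_) hT
    exact ((NoetherianSpace.isCompact _).isConstructible isClosed_closure.isOpen_compl)
  have hy' : y ∉ closure (closure ({y} : Set X) ∩ T) := by
    intro h
    obtain ⟨x, ⟨hx, hxT⟩, hxy⟩ := Groth.Agent.H18Et.Cons.exists_specializes_of_mem_closure hcl h
    obtain ⟨w, hw⟩ := hxT
    exact hy ⟨w, hw.trans ((specializes_iff_mem_closure.2 hx).antisymm hxy).eq.symm⟩
  obtain ⟨z, ⟨hz₁, hz₂⟩, hzc⟩ :=
    nonempty_inter_closedPoints (Z := (closure (closure ({y} : Set X) ∩ T))ᶜ ∩ closure {y})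
      ⟨y, hy', subset_closure rfl⟩ (isClosed_closure.isOpen_compl.isLocallyClosed.inter isClosed_closure.isLocallyClosed)
  obtain ⟨n, hn⟩ := exists_periodic q g hg hzc
  refine hz₁ (subset_closure ⟨hz₂, g^[n] z, ?_⟩)
  rw [← Function.iterate_succ_apply' g n z]
  exact hn

include q in
/-- Over the image of a fixed point the endomorphism is closed. -/
theorem exists_nhd_universallyClosed (G : X ⟶ X) [UniversallyInjective G] {z : X} (hz : G z = z) :
    ∃ U : X.Opens, z ∈ U ∧ UniversallyClosed (G ∣_ U) := by
  haveI := isNoetherian q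
  haveI := locallyOfFiniteType_endo q G
  haveI := isSeparated_of_universallyInjective G
  haveI : QuasiCompact G := inferInstance
  let j := G.toNormalization
  let ν := G.fromNormalization
  have hjν : j ≫ ν = G := G.toNormalization_fromNormalization
  haveI : IsOpenImmersion j := inferInstance
  haveI : UniversallyInjective (j ≫ ν) := by rw [hjν]; infer_instance
  obtain ⟨hgen, hsurj⟩ := genericPoints_perm G G.injective (surjective_of_injective q G G.injective)
  have hcl : IsClosed (ν '' (Set.range j)ᶜ) := ν.isClosedMap _ j.isOpenEmbedding.isOpen_range.isClosed_compl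
  let U : X.Opens := ⟨(ν '' (Set.range j)ᶜ)ᶜ, hcl.isOpen_compl⟩
  refine ⟨U, ?_, ?_⟩
  · rintro ⟨w, hw, hwz⟩
    exact hw ⟨z, eq_of_fixed j ν (by rwa [hjν]) (by rwa [hjν]) (by rw [hjν]; exact hz) w hwz⟩
  · haveI : Surjective (j ∣_ ν ⁻¹ᵁ U) := ⟨fun p => by
      obtain ⟨x, hx⟩ : (p.1 : G.normalization) ∈ Set.range j := by
        by_contra h
        exact p.2 ⟨p.1, h, rfl⟩
      refine ⟨⟨x, show ν (j x) ∈ U by rw [hx]; exact p.2⟩, ?_⟩
      exact Subtype.ext ((morphismRestrict_base_coe j (ν ⁻¹ᵁ U) _).trans hx)⟩
    haveI : IsIso (j ∣_ ν ⁻¹ᵁ U) := (isIso_iff_isOpenImmersion_and_surjective _).2 ⟨inferInstance, inferInstance⟩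
    rw [← hjν, morphismRestrict_comp]
    infer_instance

include q in
/-- The main result over the integers. -/
theorem surjective_and_isFinite (g : X ⟶ X) [UniversallyInjective g] : Surjective g ∧ IsFinite g := by
  haveI := isNoetherian q
  haveI := jacobsonSpace q
  haveI := locallyOfFiniteType_endo q g
  haveI := isSeparated_of_universallyInjective g
  haveI hgs : Surjective g := ⟨surjective_of_injective q g g.injective⟩
  refine ⟨hgs, ?_⟩
  have key : ∀ z : X, IsClosed ({z} : Set X) → ∃ U : X.Opens, z ∈ U ∧ UniversallyClosed (g ∣_ U) := by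
    intro z hz
    obtain ⟨n, hn⟩ := exists_periodic q g g.injective hz
    haveI := universallyInjective_iter g n
    have hG : (iter g n ≫ g) z = z := by
      rw [Scheme.Hom.comp_apply, iter_apply, ← Function.iterate_succ_apply' g n z]
      exact hn
    haveI : UniversallyInjective (iter g n ≫ g) :=
      MorphismProperty.comp_mem @UniversallyInjective (iter g n) g inferInstance inferInstance
    obtain ⟨U, hzU, hU⟩ := exists_nhd_universallyClosed q (iter g n ≫ g) hG
    refine ⟨U, hzU, ?_⟩
    rw [morphismRestrict_comp] at hU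
    haveI := hU
    haveI : Surjective (iter g n) := ⟨surjective_of_injective q _ (iter g n).injective⟩
    haveI : Surjective (iter g n ∣_ g ⁻¹ᵁ U) := IsZariskiLocalAtTarget.restrict (P := @Surjective) ‹Surjective (iter g n)› _
    exact UniversallyClosed.of_comp_surjective (iter g n ∣_ g ⁻¹ᵁ U) (g ∣_ U)
  choose U hzU hU using key
  let W : {z : X // IsClosed ({z} : Set X)} → X.Opens := fun z => U z.1 z.2
  have hW : iSup W = ⊤ := by
    by_contra h
    obtain ⟨z, hz, hzc⟩ := nonempty_inter_closedPoints (Z := ((iSup W : X.Opens) : Set X)ᶜ)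
      (by rwa [Set.nonempty_compl, ne_eq, ← Opens.coe_top, Opens.coe_inj]) (iSup W).2.isClosed_compl.isLocallyClosed
    exact hz (Opens.mem_iSup.2 ⟨⟨z, hzc⟩, hzU z hzc⟩)
  haveI : UniversallyClosed g :=
    IsZariskiLocalAtTarget.of_iSup_eq_top (P := @UniversallyClosed) W hW fun z => hU z.1 z.2
  haveI : IsProper g := {}
  exact IsFinite.of_isProper_of_locallyQuasiFinite g

end Groth.Agent.H06Endo
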