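import Groth.Agent.H06Endo.Branches
import Groth.Agent.H17.QcImage
import Mathlib.AlgebraicGeometry.Morphisms.UniversallyInjective
import Mathlib.AlgebraicGeometry.Morphisms.Integral
import Mathlib.AlgebraicGeometry.ResidueField
import Mathlib.AlgebraicGeometry.Noetherian

/-!
# The integral closure of a radicial endomorphism has one point over a fixed point
-/

set_option autoImplicit false
set_option linter.style.haveILetI false
set_option linter.unusedSectionVars false
set_option backward.isDefEq.respectTransparency false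

universe u

open CategoryTheory AlgebraicGeometry TopologicalSpace

namespace Groth.Agent.H06Endo

variable {X : Scheme.{u}}

theorem isIntegralElem_comp_of_eq {R S O : Type*} [CommRing R] [CommRing S] [CommRing O] (r : R →+* O)
    (ν : R →+* S) (g : S →+* O) (φ : O →+* O) (h : ∀ a, g (ν a) = φ (r a)) {x : S} (hx : ν.IsIntegralElem x) :
    φ.IsIntegralElem (g x) := by
  obtain ⟨p, hp, he⟩ := hx
  refine ⟨p.map r, hp.map r, ?_⟩
  rw [Polynomial.eval₂_map, show φ.comp r = g.comp ν from RingHom.ext fun a => (h a).symm,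
    ← Polynomial.hom_eval₂, he, map_zero]

/-- Evaluation at a generization, on the local ring of a point. -/
noncomputable def evalAt {z η : X} (h : η ⤳ z) : X.presheaf.stalk z →+* X.residueField η :=
  (X.presheaf.stalkSpecializes h ≫ X.residue η).hom

theorem evalAt_germ {z η : X} (h : η ⤳ z) (U : X.Opens) (hz : z ∈ U) (a : Γ(X, U)) :
    evalAt h (X.presheaf.germ U z hz a) = X.evaluation U η (h.mem_open U.isOpen hz) a := by
  show (X.presheaf.germ U z hz ≫ X.presheaf.stalkSpecializes h ≫ X.residue η).hom a = _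
  rw [TopCat.Presheaf.germ_stalkSpecializes_assoc]
  rfl

theorem evalAt_surjective_frac {z η : X} (h : η ⤳ z) (x : X.residueField η) :
    ∃ a b : X.presheaf.stalk z, evalAt h b ≠ 0 ∧ x = evalAt h a / evalAt h b := by
  obtain ⟨s, rfl⟩ := X.residue_surjective η x
  obtain ⟨_, ⟨U, hU, rfl⟩, hzU, -⟩ := X.isBasis_affineOpens.exists_subset_of_mem_open (Set.mem_univ z) isOpen_univ
  have hηU : η ∈ U := h.mem_open U.isOpen hzU
  letI := X.presheaf.algebra_section_stalk ⟨η, hηU⟩
  haveI := hU.isLocalization_stalk ⟨η, hηU⟩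
  obtain ⟨⟨a, b⟩, hab⟩ := IsLocalization.surj (hU.primeIdealOf ⟨η, hηU⟩).asIdeal.primeCompl s
  have hb : X.evaluation U η hηU b.1 ≠ 0 := by
    intro h0
    have h1 := IsLocalization.map_units (X.presheaf.stalk η) b
    exact ((IsUnit.map (X.residue η).hom h1).ne_zero) h0
  refine ⟨X.presheaf.germ U z hzU a, X.presheaf.germ U z hzU b.1, by rwa [evalAt_germ], ?_⟩
  rw [evalAt_germ, evalAt_germ, eq_div_iff hb]
  show (X.residue η).hom s * (X.residue η).hom _ = (X.residue η).hom _
  rw [← map_mul]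
  exact congrArg _ hab

/-- Stalk map at a fixed point. -/
noncomputable def endoStalk (G : X ⟶ X) {z : X} (hz : G z = z) : X.presheaf.stalk z →+* X.presheaf.stalk z :=
  ((X.presheaf.stalkSpecializes (specializes_of_eq hz)) ≫ G.stalkMap z).hom

theorem endoStalk_germ (G : X ⟶ X) {z : X} (hz : G z = z) (U : X.Opens) (hzU : z ∈ U) (a : Γ(X, U)) :
    endoStalk G hz (X.presheaf.germ U z hzU a) =
      X.presheaf.germ (G ⁻¹ᵁ U) z (show G z ∈ U by rwa [hz]) (G.app U a) := by
  show (X.presheaf.germ U z hzU ≫ X.presheaf.stalkSpecializes (specializes_of_eq hz) ≫ G.stalkMap z).hom a = _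
  rw [TopCat.Presheaf.germ_stalkSpecializes_assoc]
  exact G.germ_stalkMap_apply U z (by rwa [hz]) a

instance (G : X ⟶ X) {z : X} (hz : G z = z) : IsLocalHom (endoStalk G hz) := by
  refine ⟨fun a ha => ?_⟩
  have h1 := isUnit_of_map_unit (G.stalkMap z).hom _ ha
  have : ∀ {p q : X} (e : p = q) (b : X.presheaf.stalk q),
      IsUnit ((X.presheaf.stalkSpecializes (specializes_of_eq e)).hom b) → IsUnit b := by
    intro p q e b hb
    subst e
    simpa using hb
  exact this hz a h1

set_option maxHeartbeats 1600000 in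
/-- The only point over a fixed point is the fixed point. -/
theorem eq_of_fixed [IsNoetherian X] {Y : Scheme.{u}} (j : X ⟶ Y) [IsOpenImmersion j] [QuasiCompact j]
    [IsDominant j] (ν : Y ⟶ X) [IsIntegralHom ν] [UniversallyInjective (j ≫ ν)]
    (hgen : ∀ η ∈ genericPoints X, (j ≫ ν) η ∈ genericPoints X)
    (hsurj : ∀ ξ ∈ genericPoints X, ∃ η ∈ genericPoints X, (j ≫ ν) η = ξ)
    {z : X} (hz : (j ≫ ν) z = z) (w : Y) (hw : ν w = z) : j z = w := by
  classical
  let G := j ≫ ν
  let ι := {η : X // η ∈ genericPoints X ∧ η ⤳ z}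
  haveI : Finite ι := by
    haveI : Finite (genericPoints X) := by
      haveI : Finite (irreducibleComponents X) :=
        TopologicalSpace.NoetherianSpace.finite_irreducibleComponents.to_subtype
      exact Finite.of_injective _ (genericPoints.component_injective (α := X))
    exact Finite.of_injective (fun i : ι => (⟨i.1, i.2.1⟩ : genericPoints X)) fun a b h =>
      Subtype.ext (congrArg (fun x : genericPoints X => x.1) h)
  have hGs : ∀ η : X, η ⤳ z → G η ⤳ z := fun η h => by
    have := h.map G.continuous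
    rwa [hz] at this
  have hGinj : UniversallyInjective G := inferInstanceAs (UniversallyInjective (j ≫ ν))
  let π : ι → ι := fun i => ⟨G i.1, hgen _ i.2.1, hGs _ i.2.2⟩
  have hπ : Function.Injective π := fun a b h => Subtype.ext (G.injective (congrArg Subtype.val h))
  obtain ⟨η₀, hη₀, hη₀w⟩ : ∃ η : X, η ∈ genericPoints X ∧ j η ⤳ w := by
    obtain ⟨x, hx⟩ := H17.exists_specializes_of_mem_closure_range j (y := w)
      (by rw [(denseRange_iff_closure_range.1 j.denseRange)]; trivial)
    let i := genericPoints.ofComponent (α := X) ⟨irreducibleComponent x, irreducibleComponent_mem_irreducibleComponents x⟩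
    have hi : i.1 ⤳ x := by
      rw [specializes_iff_mem_closure, genericPoints.isGenericPoint_ofComponent]
      exact mem_irreducibleComponent
    exact ⟨i.1, i.2, (hi.map j.continuous).trans hx⟩
  have hsp : η₀ ⤳ z := by
    obtain ⟨η', hη', he⟩ : ∃ η', η' ∈ genericPoints X ∧ η' = η₀ := ⟨η₀, hη₀, rfl⟩
    haveI : Finite ι := inferInstance
    have hG : G η₀ ⤳ z := by
      have := hη₀w.map ν.continuous
      rw [hw] at this
      exact this
    obtain ⟨i, hi⟩ := (Finite.injective_iff_surjective.1 hπ) ⟨G η₀, hgen _ hη₀, hG⟩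
    have := G.injective (congrArg Subtype.val hi)
    exact this ▸ i.2.2
  let i₀ : ι := ⟨η₀, hη₀, hsp⟩
  let O := X.presheaf.stalk z
  let K : ι → Type u := fun i => X.residueField i.1
  letI : ∀ i, Field (K i) := fun i => inferInstanceAs (Field (X.residueField i.1))
  letI : ∀ i, Algebra O (K i) := fun i => (evalAt i.2.2).toAlgebra
  haveI : IsNoetherianRing O := inferInstanceAs (IsNoetherianRing (X.presheaf.stalk z))
  let τ : ∀ i, K (π i) →+* K i := fun i => (G.residueFieldMap i.1).hom
  obtain ⟨_, ⟨U, hU, rfl⟩, hzU, -⟩ := X.isBasis_affineOpens.exists_subset_of_mem_open (Set.mem_univ z) isOpen_univ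
  have hτ : ∀ i a, τ i (algebraMap O (K (π i)) a) = algebraMap O (K i) (endoStalk G hz a) := by
    intro i a
    obtain ⟨W, hzW, s, rfl⟩ := X.presheaf.exists_germ_eq a
    show (G.residueFieldMap i.1).hom (evalAt (π i).2.2 (X.presheaf.germ W z hzW s)) =
      evalAt i.2.2 (endoStalk G hz (X.presheaf.germ W z hzW s))
    rw [evalAt_germ, endoStalk_germ G hz W hzW s, evalAt_germ]
    exact congrArg (fun m : Γ(X, W) ⟶ X.residueField i.1 => m.hom s)
      (Scheme.evaluation_naturality G i.1 ((hGs _ i.2.2).mem_open W.isOpen hzW))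
  have hins : ∀ i, ∀ x : K i, ∃ n : ℕ, 0 < n ∧ x ^ n ∈ (τ i).range := by
    intro i x
    have h02 : UniversallyInjective G ↔
        (Function.Injective G ∧ ∀ x, (G.residueFieldMap x).hom.IsPurelyInseparable) :=
      (tfae_universallyInjective G).out 0 2
    have hp : (G.residueFieldMap i.1).hom.IsPurelyInseparable := (h02.1 hGinj).2 i.1
    algebraize [(G.residueFieldMap i.1).hom]
    obtain ⟨q, hq⟩ := ExpChar.exists (X.residueField (G i.1))
    haveI := hq
    obtain ⟨n, hn⟩ := IsPurelyInseparable.pow_mem (X.residueField (G i.1)) q (x : X.residueField i.1)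
    exact ⟨q ^ n, pow_pos (expChar_pos (X.residueField (G i.1)) q) n, hn⟩
  let V : Y.Opens := ν ⁻¹ᵁ U
  have hV : IsAffineOpen V := hU.preimage ν
  have hjzV : j z ∈ V := by
    show ν (j z) ∈ U
    rw [← Scheme.Hom.comp_apply, hz]
    exact hzU
  have hwV : w ∈ V := show ν w ∈ U by rw [hw]; exact hzU
  have hzV : z ∈ j ⁻¹ᵁ V := hjzV
  let g : Γ(Y, V) →+* O := (j.app V ≫ X.presheaf.germ (j ⁻¹ᵁ V) z hzV).hom
  have hint : ∀ β, (endoStalk G hz).IsIntegralElem (g β) := fun β =>
    isIntegralElem_comp_of_eq (X.presheaf.germ U z hzU).hom (ν.app U).hom g (endoStalk G hz)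
      (fun a => by
        rw [endoStalk_germ G hz U hzU a]
        rfl)
      (ν.isIntegral_app U hU β)
  have hloc : ∀ a : O, ∃ β s, IsUnit (g s) ∧ a * g s = g β := by
    intro a
    obtain ⟨a', rfl⟩ := (asIso (j.stalkMap z)).commRingCatIsoToRingEquiv.surjective a
    letI := Y.presheaf.algebra_section_stalk ⟨j z, hjzV⟩
    haveI := hV.isLocalization_stalk ⟨j z, hjzV⟩
    obtain ⟨⟨β, s⟩, hs⟩ := IsLocalization.surj (hV.primeIdealOf ⟨j z, hjzV⟩).asIdeal.primeCompl a'
    have hg : ∀ b, g b = (j.stalkMap z).hom (Y.presheaf.germ V (j z) hjzV b) := fun b =>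
      (j.germ_stalkMap_apply V z hjzV b).symm
    refine ⟨β, s.1, ?_, ?_⟩
    · rw [hg]
      exact (IsLocalization.map_units (Y.presheaf.stalk (j z)) s).map (j.stalkMap z).hom
    · rw [hg, hg]
      show (j.stalkMap z).hom a' * _ = _
      rw [← map_mul]
      exact congrArg _ hs
  let D := Y.presheaf.stalk w
  let h : D →+* K i₀ := (Y.presheaf.stalkSpecializes hη₀w ≫ j.stalkMap η₀ ≫ X.residue η₀).hom
  have hgermh : ∀ (W : Y.Opens) (hwW : w ∈ W) (b : Γ(Y, W)),
      h (Y.presheaf.germ W w hwW b) = X.evaluation (j ⁻¹ᵁ W) η₀ (hη₀w.mem_open W.isOpen hwW) (j.app W b) := by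
    intro W hwW b
    show (X.residue η₀).hom ((j.stalkMap η₀).hom ((Y.presheaf.stalkSpecializes hη₀w).hom (Y.presheaf.germ W w hwW b))) = _
    have : (Y.presheaf.stalkSpecializes hη₀w).hom (Y.presheaf.germ W w hwW b) =
        Y.presheaf.germ W (j η₀) (hη₀w.mem_open W.isOpen hwW) b :=
      congrArg (fun m => m.hom b) (TopCat.Presheaf.germ_stalkSpecializes Y.presheaf hwW hη₀w)
    rw [this, j.germ_stalkMap_apply]
    rfl
  let k : Γ(Y, V) →+* D := (Y.presheaf.germ V w hwV).hom
  let l : O →+* D := (X.presheaf.stalkSpecializes (specializes_of_eq hw) ≫ ν.stalkMap w).hom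
  haveI : IsLocalHom l := by
    refine ⟨fun a ha => ?_⟩
    have h1 := isUnit_of_map_unit (ν.stalkMap w).hom _ ha
    have : ∀ {p q : X} (e : p = q) (b : X.presheaf.stalk q),
        IsUnit ((X.presheaf.stalkSpecializes (specializes_of_eq e)).hom b) → IsUnit b := by
      intro p q e b hb
      subst e
      simpa using hb
    exact this hw a h1
  have hk : ∀ β, h (k β) = algebraMap O (K i₀) (g β) := fun β =>
    (hgermh V hwV β).trans (evalAt_germ hsp (j ⁻¹ᵁ V) hzV (j.app V β)).symm
  have hl : ∀ a, h (l a) = algebraMap O (K i₀) (endoStalk G hz a) := by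
    intro a
    obtain ⟨W, hzW, s, rfl⟩ := X.presheaf.exists_germ_eq a
    have e1 : l (X.presheaf.germ W z hzW s) = Y.presheaf.germ (ν ⁻¹ᵁ W) w (show ν w ∈ W by rwa [hw]) (ν.app W s) := by
      show (ν.stalkMap w).hom ((X.presheaf.stalkSpecializes (specializes_of_eq hw)).hom (X.presheaf.germ W z hzW s)) = _
      have : (X.presheaf.stalkSpecializes (specializes_of_eq hw)).hom (X.presheaf.germ W z hzW s) =
          X.presheaf.germ W (ν w) (by rwa [hw]) s :=
        congrArg (fun m => m.hom s) (TopCat.Presheaf.germ_stalkSpecializes X.presheaf hzW (specializes_of_eq hw))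
      rw [this]
      exact ν.germ_stalkMap_apply W w (by rwa [hw]) s
    rw [e1, hgermh]
    show _ = evalAt hsp (endoStalk G hz (X.presheaf.germ W z hzW s))
    rw [endoStalk_germ G hz W hzW s, evalAt_germ]
    rfl
  have hfr : ∀ i, ∀ x : K i, ∃ a b : O, algebraMap O (K i) b ≠ 0 ∧
      x = algebraMap O (K i) a / algebraMap O (K i) b := fun i x => evalAt_surjective_frac i.2.2 x
  have key := main π hπ K hfr (endoStalk G hz) τ hτ hins g hint hloc i₀ h k hk l hl
  refine Inseparable.eq ((inseparable_iff_forall_isOpen).2 fun T hT => ?_)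
  have hmem : ∀ β, w ∈ Y.basicOpen β ↔ j z ∈ Y.basicOpen β := fun β => by
    rw [Y.mem_basicOpen β w hwV, Y.mem_basicOpen β (j z) hjzV]
    refine (key β).trans ?_
    show IsUnit ((j.app V ≫ X.presheaf.germ (j ⁻¹ᵁ V) z hzV).hom β) ↔ _
    rw [← j.germ_stalkMap V z hjzV]
    exact ⟨fun hu => isUnit_of_map_unit (j.stalkMap z).hom _ hu, fun hu => hu.map (j.stalkMap z).hom⟩
  constructor
  · intro hjT
    obtain ⟨f, hf, hfm⟩ := hV.exists_basicOpen_le (V := ⟨T, hT⟩) ⟨j z, hjT⟩ hjzV
    exact hf ((hmem f).2 hfm)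
  · intro hwT
    obtain ⟨f, hf, hfm⟩ := hV.exists_basicOpen_le (V := ⟨T, hT⟩) ⟨w, hwT⟩ hwV
    exact hf ((hmem f).1 hfm)

end Groth.Agent.H06Endo
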