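import Groth.Agent.H06Endo.Finite
import Groth.Agent.H8Props.MonoEndo.Main
import Groth.Agent.H06EGA8.Descend
import Groth.Agent.S2590

/-!
# EGA IV 10.4.11: radicial endomorphisms of finitely presented schemes
-/

set_option autoImplicit false
set_option linter.style.haveILetI false
set_option linter.unusedSectionVars false
set_option backward.isDefEq.respectTransparency false
set_option backward.defeqAttrib.useBackward true
universe u

open CategoryTheory CategoryTheory.Limits AlgebraicGeometry Opposite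
open Groth.Agent.H7Lim.FPDescent

namespace Groth.Agent.H06Endo

section Descent

variable {I : Type u} [SmallCategory I] {D : I ⥤ Scheme.{u}} {c : Cone D}
variable [IsCofiltered I] [∀ (i j : I) (f : i ⟶ j), IsAffineHom (D.map f)]
  [∀ i, CompactSpace (D.obj i)] [∀ i, QuasiSeparatedSpace (D.obj i)]

theorem exists_universallyInjective {U : Scheme.{u}} {h : U ⟶ c.pt} (hc : IsLimit c) {i : I} (M : Model c h i)
    {g : U ⟶ U} [UniversallyInjective g] (hg : g ≫ h = h) (G : Hom M M g) :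
    ∃ (j : I) (φ : j ⟶ i), UniversallyInjective (G.shift φ hg).o := by
  haveI : LocallyOfFinitePresentation (G.o ≫ M.p) := G.w_p.symm ▸ M.lfp
  haveI : QuasiCompact (G.o ≫ M.p) := G.w_p.symm ▸ M.qc
  haveI : QuasiSeparated (G.o ≫ M.p) := G.w_p.symm ▸ M.qs
  have hX : IsPullback M.g g G.o M.g := IsPullback.of_bot (by rw [G.w_p, hg]; exact M.hpb) G.w_g M.hpb
  obtain ⟨j, φ, Xi, Yi, fi, gi, pY, pX, hY, hXi, hfi⟩ :=
    Groth.Agent.S2590.result D c hc i G.o M.p g h M.g M.g M.hpb hX
  refine ⟨j, φ, ?_⟩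
  let P := pullback M.p (D.map φ)
  have hpb : IsPullback (pullback.fst M.p (D.map φ)) (pullback.snd M.p (D.map φ)) M.p (D.map φ) :=
    IsPullback.of_hasPullback _ _
  have hfst : (G.shift φ hg).o ≫ pullback.fst M.p (D.map φ) = pullback.fst M.p (D.map φ) ≫ G.o := by
    simp [Hom.shift]
  have hsnd : (G.shift φ hg).o ≫ pullback.snd M.p (D.map φ) = pullback.snd M.p (D.map φ) := by
    simp [Hom.shift]
  have hsq : IsPullback (pullback.fst M.p (D.map φ)) (G.shift φ hg).o G.o (pullback.fst M.p (D.map φ)) :=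
    IsPullback.of_bot (by rw [G.w_p, hsnd]; exact hpb) hfst.symm hpb
  let e : P ≅ Yi := hpb.isoIsPullback _ _ hY
  have he : e.hom ≫ pY = pullback.fst M.p (D.map φ) := hpb.isoIsPullback_hom_fst _ _ hY
  let u : P ⟶ Xi := hXi.lift (pullback.fst M.p (D.map φ)) ((G.shift φ hg).o ≫ e.hom)
    (by rw [Category.assoc, he]; exact hfst.symm)
  have hu : IsPullback u (G.shift φ hg).o fi e.hom :=
    IsPullback.of_right (by rw [hXi.lift_fst, he]; exact hsq) (hXi.lift_snd _ _ _) hXi
  exact MorphismProperty.of_isPullback (P := @UniversallyInjective) hu hfi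

theorem surjective_isFinite_of_hom {U : Scheme.{u}} {h : U ⟶ c.pt} {i : I} (M : Model c h i) {g : U ⟶ U}
    (hg : g ≫ h = h) (G : Hom M M g) (hs : Surjective G.o) (hf : IsFinite G.o) : Surjective g ∧ IsFinite g := by
  have hX : IsPullback M.g g G.o M.g := IsPullback.of_bot (by rw [G.w_p, hg]; exact M.hpb) G.w_g M.hpb
  exact ⟨MorphismProperty.of_isPullback hX hs, MorphismProperty.of_isPullback hX hf⟩

end Descent

/-- Over an affine base. -/
theorem main_affine {R : Type u} [CommRing R] {X : Scheme.{u}} (f : X ⟶ Spec (CommRingCat.of R))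
    [LocallyOfFinitePresentation f] [QuasiCompact f] [QuasiSeparated f] (g : X ⟶ X) (hg : g ≫ f = f)
    [UniversallyInjective g] : Surjective g ∧ IsFinite g := by
  let c : Cone ((subringFunctor R).op ⋙ Scheme.Spec) := Scheme.Spec.mapCone (subringCocone R).op
  have hc : IsLimit c := isLimitOfPreserves Scheme.Spec (subringIsColimit R).op
  haveI : ∀ (i j : (Finset R)ᵒᵖ) (φ : i ⟶ j), IsAffineHom (((subringFunctor R).op ⋙ Scheme.Spec).map φ) := fun i j φ =>
    inferInstanceAs (IsAffineHom (Spec.map _))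
  haveI : ∀ i, CompactSpace (((subringFunctor R).op ⋙ Scheme.Spec).obj i) := fun i =>
    inferInstanceAs (CompactSpace ↥(Spec _))
  haveI : ∀ i, QuasiSeparatedSpace (((subringFunctor R).op ⋙ Scheme.Spec).obj i) := fun i =>
    inferInstanceAs (QuasiSeparatedSpace ↥(Spec _))
  haveI : Nonempty (Finset R) := ⟨∅⟩
  let h : X ⟶ c.pt := f
  have hgh : g ≫ h = h := hg
  obtain ⟨i, ⟨M⟩⟩ := exists_model hc (X := X) h
  obtain ⟨j, φ, ⟨G⟩⟩ := exists_hom hc M M g hgh
  obtain ⟨k, ψ, hinj⟩ := exists_universallyInjective hc (M.shift φ) hgh G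
  let M' := (M.shift φ).shift ψ
  haveI : Algebra.FiniteType ℤ ↥(Algebra.adjoin ℤ ((unop k : Finset R) : Set R)) :=
    (Algebra.adjoin ℤ ((unop k : Finset R) : Set R)).fg_iff_finiteType.1 ⟨unop k, rfl⟩
  let A := CommRingCat.of ↥(Algebra.adjoin ℤ ((unop k : Finset R) : Set R))
  let ι : CommRingCat.of (ULift.{u} ℤ) ⟶ A :=
    CommRingCat.ofHom ((Int.castRingHom _).comp (ULift.ringEquiv : ULift.{u} ℤ ≃+* ℤ).toRingHom)
  haveI : LocallyOfFiniteType (Spec.map ι) := by
    rw [HasRingHomProperty.Spec_iff (P := @LocallyOfFiniteType)]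
    exact RingHom.FiniteType.comp (RingHom.finiteType_algebraMap.2 inferInstance)
      (RingHom.FiniteType.of_surjective _ (ULift.ringEquiv : ULift.{u} ℤ ≃+* ℤ).surjective)
  let p' : M'.P ⟶ Spec A := M'.p
  haveI : LocallyOfFiniteType p' := inferInstanceAs (LocallyOfFiniteType M'.p)
  haveI : QuasiCompact p' := M'.qc
  obtain ⟨hs, hf⟩ := @surjective_and_isFinite M'.P (p' ≫ Spec.map ι) inferInstance inferInstance
    (G.shift ψ hgh).o hinj
  exact surjective_isFinite_of_hom M' hgh (G.shift ψ hgh) hs hf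

theorem bijective_and_isFinite {X S : Scheme.{u}} (p : X ⟶ S) [LocallyOfFinitePresentation p] [QuasiCompact p] [QuasiSeparated p]
    (f : X ⟶ X) (hf : f ≫ p = p) [UniversallyInjective f] : Function.Bijective f ∧ IsFinite f := by
  have key : ∀ U : S.affineOpens, Surjective (f ∣_ p ⁻¹ᵁ U.1) ∧ IsFinite (f ∣_ p ⁻¹ᵁ U.1) := by
    intro U
    have hpre : f ⁻¹ᵁ (p ⁻¹ᵁ U.1) = p ⁻¹ᵁ U.1 := by
      show (f ≫ p) ⁻¹ᵁ U.1 = _
      rw [hf]
    let e := X.isoOfEq hpre
    let f' : (p ⁻¹ᵁ U.1).toScheme ⟶ (p ⁻¹ᵁ U.1).toScheme := e.inv ≫ f ∣_ p ⁻¹ᵁ U.1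
    let q := (p ∣_ U.1) ≫ U.2.isoSpec.hom
    haveI : UniversallyInjective (f ∣_ p ⁻¹ᵁ U.1) := IsZariskiLocalAtTarget.restrict (P := @UniversallyInjective) ‹_› _
    haveI : UniversallyInjective f' := (MorphismProperty.cancel_left_of_respectsIso @UniversallyInjective _ _).2 ‹_›
    haveI : LocallyOfFinitePresentation (p ∣_ U.1) :=
      IsZariskiLocalAtTarget.restrict (P := @LocallyOfFinitePresentation) ‹_› _
    haveI : QuasiSeparated (p ∣_ U.1) := IsZariskiLocalAtTarget.restrict (P := @QuasiSeparated) ‹_› _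
    haveI : QuasiCompact (p ∣_ U.1) := IsZariskiLocalAtTarget.restrict (P := @QuasiCompact) ‹_› _
    have hq : f' ≫ (p ∣_ U.1) = p ∣_ U.1 := by
      rw [← cancel_mono U.1.ι]
      simp only [f', e, Category.assoc, morphismRestrict_ι, morphismRestrict_ι_assoc, Scheme.isoOfEq_inv_ι_assoc, hf]
    obtain ⟨hs, hfin⟩ := main_affine (R := Γ(S, U.1)) q f' (by simp only [q, reassoc_of% hq])
    exact ⟨(MorphismProperty.cancel_left_of_respectsIso @Surjective _ _).1 hs,
      (MorphismProperty.cancel_left_of_respectsIso @IsFinite _ _).1 hfin⟩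
  have hcov : iSup (fun U : S.affineOpens => p ⁻¹ᵁ U.1) = ⊤ := by
    rw [← Scheme.Hom.preimage_iSup, iSup_affineOpens_eq_top, Scheme.Hom.preimage_top]
  haveI hsur : Surjective f := IsZariskiLocalAtTarget.of_iSup_eq_top (P := @Surjective) _ hcov fun U => (key U).1
  exact ⟨⟨f.injective, f.surjective⟩,
    IsZariskiLocalAtTarget.of_iSup_eq_top (P := @IsFinite) _ hcov fun U => (key U).2⟩

end Groth.Agent.H06Endo
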